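/-
The 2-fusion system of a finite group containing `M22` with the normalizer of a Sylow 2-subgroup
of `M22` inside `M22` is simple.
-/
import Cfsg.Agent.FusionSimple.Mathieu.Data
import Cfsg.Agent.FusionSimple.Criterion
import Cfsg.Agent.Mathieu.SmallOrders

set_option autoImplicit false

namespace CfsgLib.FusionSimple.MathieuTab

open Cfsg CfsgLib.Mathieu

/-- The membership test of `M22`. -/
def inM22 (t : ℕ) : Bool :=
  (tableValid t && preservesCode t) && app t 23 == 23 && app t 0 == 0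

theorem inGroup_of_inM22 {t : ℕ} (ht : inM22 t = true) : InGroup enc Spor.M22 t := by
  simp only [inM22, Bool.and_eq_true, beq_iff_eq] at ht
  obtain ⟨σ, r⟩ := exists_rep_of_valid ht.1.1.1
  exact ⟨σ, mem_SporM22.2 ⟨⟨mem_M24_of_table r ht.1.1.2, r.apply_eq enc ht.1.2⟩,
    r.apply_eq enc ht.2⟩, r⟩

/-- The certified Sylow 2-subgroup of `M22`. -/
abbrev IsM22Sylow (H : Subgroup (Equiv.Perm GolayPt)) : Prop :=
  IsTabGroup Spor.M22 H (pcGens m22Cert.pc []) (pcElts m22Cert.pc [idT]) 7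

theorem exists_isM22Sylow : ∃ H, IsM22Sylow H := by
  have hpc : pcOK inM22 m22Cert.pc [] [idT] = true := by decide +kernel
  obtain ⟨H, hH⟩ := exists_isTabGroup (fun _ ht => inGroup_of_inM22 ht) m22Cert.pc
    (isTabGroup_bot Spor.M22) hpc
  have hl : m22Cert.pc.length = 7 := by decide +kernel
  rw [Nat.zero_add, hl] at hH
  exact ⟨H, hH⟩

/-- It is self-normalizing. -/
theorem mem_of_normalizes {H : Subgroup (Equiv.Perm GolayPt)} (hH : IsM22Sylow H)
    {g : Equiv.Perm GolayPt} (hg : g ∈ Spor.M22) (hgn : ∀ σ, σ ∈ H ↔ g * σ * g⁻¹ ∈ H) :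
    g ∈ H := by
  classical
  have hcard : Nat.card Spor.M22 = 2 ^ 7 * 3465 := by rw [card_SporM22]; norm_num
  have hUcard : Nat.card (H.subgroupOf Spor.M22) = 2 ^ 7 := by
    rw [Nat.card_congr (Subgroup.subgroupOfEquivOfLe hH.le).toEquiv, hH.card]
  have hUp : IsPGroup 2 (H.subgroupOf Spor.M22) := IsPGroup.of_card hUcard
  have hidx : ¬ 2 ∣ (H.subgroupOf Spor.M22).index := by
    have h1 := Subgroup.card_mul_index (H.subgroupOf Spor.M22)
    rw [hUcard, hcard] at h1
    rw [Nat.eq_of_mul_eq_mul_left (by positivity) h1]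
    omega
  haveI : Fact (Nat.Prime 2) := ⟨Nat.prime_two⟩
  set U : Sylow 2 Spor.M22 := hUp.toSylow hidx with hU
  have hmemU : ∀ a : Spor.M22, a ∈ (U : Subgroup Spor.M22) ↔ (a : Equiv.Perm GolayPt) ∈ H :=
    fun a => by
      show a ∈ H.subgroupOf Spor.M22 ↔ _
      rw [Subgroup.mem_subgroupOf]
  have hsyl : ∀ a ∈ Spor.M22, (∀ σ, σ ∈ H ↔ a * σ * a⁻¹ ∈ H) → a ^ 2 ^ 7 = 1 → a ∈ H := by
    intro a ha han hak
    have hZ : IsPGroup 2 (Subgroup.zpowers (⟨a, ha⟩ : Spor.M22)) := by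
      intro x
      obtain ⟨i, hi⟩ := x.2
      refine ⟨7, Subtype.ext ?_⟩
      show (x : Spor.M22) ^ 2 ^ 7 = 1
      rw [← hi, ← zpow_natCast, ← zpow_mul, mul_comm, zpow_mul, zpow_natCast]
      rw [show (⟨a, ha⟩ : Spor.M22) ^ 2 ^ 7 = 1 from Subtype.ext hak, one_zpow]
    have h1 := IsPGroup.inf_normalizer_sylow hZ U
    have h2 : (⟨a, ha⟩ : Spor.M22) ∈
        Subgroup.normalizer ((U : Subgroup Spor.M22) : Set Spor.M22) := by
      rw [Subgroup.mem_normalizer_iff]
      intro y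
      rw [hmemU, hmemU]
      exact han y
    have h3 : (⟨a, ha⟩ : Spor.M22) ∈ Subgroup.zpowers (⟨a, ha⟩ : Spor.M22) ⊓
        Subgroup.normalizer ((U : Subgroup Spor.M22) : Set Spor.M22) :=
      ⟨Subgroup.mem_zpowers _, h2⟩
    exact (hmemU _).1 (h1.le h3).2
  have hpow : ∀ a ∈ Spor.M22, a ^ (2 ^ 7 * 3465) = 1 := fun a ha => by
    have h1 := congrArg Subtype.val (pow_card_eq_one' (x := (⟨a, ha⟩ : Spor.M22)))
    rw [hcard] at h1
    exact h1
  have hodd : Odd (orderOf (g ^ 2 ^ 7)) := by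
    refine Odd.of_dvd_nat (⟨1732, by norm_num⟩ : Odd 3465) (orderOf_dvd_of_pow_eq_one ?_)
    rw [← pow_mul]
    exact hpow _ hg
  have hgn' : ∀ n : ℕ, ∀ σ, σ ∈ H ↔ g ^ n * σ * (g ^ n)⁻¹ ∈ H := by
    intro n
    induction n with
    | zero => simp
    | succ n ih =>
      intro σ
      rw [ih σ, hgn, show g * (g ^ n * σ * (g ^ n)⁻¹) * g⁻¹ =
        g ^ (n + 1) * σ * (g ^ (n + 1))⁻¹ by rw [pow_succ']; group]
  have hsteps : stepsOK (pcElts m22Cert.pc [idT]) [] m22Cert.der m22Cert.steps [] = true := by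
    decide +kernel
  have h1 := eq_one_of_stepsOK hH SporM22_le (⟨1732, by norm_num⟩ : Odd 3465) hpow hsyl
    (inv := []) (by simp) m22Cert.steps [] (by simp) hsteps _
    (pow_mem hg _) (by simp) (hgn' _) hodd
  exact hsyl _ hg hgn h1

variable {G : Type*} [Group G] [Finite G]

/-- If `M22` embeds in `G` and contains the normalizer in `G` of its Sylow 2-subgroup, the
2-fusion system of `G` is simple. -/
theorem isSimple_of_M22_le (φ : Spor.M22 →* G) (hφ : Function.Injective φ)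
    {H : Subgroup (Equiv.Perm GolayPt)} (hH : IsM22Sylow H)
    (hN : Subgroup.normalizer ((H.subgroupOf Spor.M22).map φ : Set G) ≤ φ.range)
    (S : Sylow 2 G) : (groupFusionSystem (S : Subgroup G)).IsSimple 2 := by
  haveI : Fact (Nat.Prime 2) := ⟨Nat.prime_two⟩
  set U : Subgroup G := (H.subgroupOf Spor.M22).map φ with hUdef
  have hmemU : ∀ a : Spor.M22, φ a ∈ U ↔ (a : Equiv.Perm GolayPt) ∈ H := by
    intro a
    constructor
    · rintro ⟨b, hb, e⟩
      rw [← hφ e]
      exact hb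
    · exact fun h => ⟨a, h, rfl⟩
  have hUcard : Nat.card U = 2 ^ 7 := by
    rw [hUdef, ← Nat.card_congr ((H.subgroupOf Spor.M22).equivMapOfInjective φ hφ).toEquiv,
      Nat.card_congr (Subgroup.subgroupOfEquivOfLe hH.le).toEquiv, hH.card]
  have hUne : U ≠ ⊥ := fun h => by
    rw [h, Subgroup.card_bot] at hUcard
    norm_num at hUcard
  have hUN : Subgroup.normalizer (U : Set G) ≤ U := by
    intro g hg
    obtain ⟨a, rfl⟩ := hN hg
    rw [hmemU]
    refine mem_of_normalizes hH a.2 fun σ => ?_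
    constructor
    · intro hσ
      have h1 := (Subgroup.mem_normalizer_iff.1 hg (φ ⟨σ, hH.le hσ⟩)).1 ((hmemU _).2 hσ)
      rw [← map_mul, ← map_inv, ← map_mul, hmemU] at h1
      exact h1
    · intro hσ
      have hσG : σ ∈ Spor.M22 := by
        have h1 := mul_mem (mul_mem (inv_mem a.2) (hH.le hσ)) a.2
        simpa [mul_assoc] using h1
      refine (hmemU ⟨σ, hσG⟩).1 ((Subgroup.mem_normalizer_iff.1 hg (φ ⟨σ, hσG⟩)).2 ?_)
      rw [← map_mul, ← map_inv, ← map_mul, hmemU]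
      exact hσ
  obtain ⟨P, hP⟩ := (IsPGroup.of_card hUcard).exists_le_sylow
  have hUP : U = (P : Subgroup G) := by
    by_contra hne
    have h1 := CfsgLib.FusionSimple.lt_normalizerIn P.isPGroup' hP hne
    exact (lt_irrefl U) (h1.trans_le fun x hx => hUN hx.2)
  refine isSimple_of_one_sylow P ?_ ?_ ?_ S
  · rw [← hUP]; exact hUne
  · rw [← hUP]
    intro T hT
    by_cases hT0 : T = ⊥
    · exact Or.inl hT0
    right
    obtain ⟨z, hzT, hz1, hzc⟩ := exists_central_of_closed (IsPGroup.of_card hUcard) hT hT0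
    obtain ⟨w, hw, rfl⟩ := hT.1 hzT
    have hwH : (w : Equiv.Perm GolayPt) ∈ H := hw
    have hclosed : m22Cert.closedOK inM22 = true := by decide +kernel
    simp only [Cert.closedOK, Bool.and_eq_true, List.contains_iff_mem, List.all_eq_true] at hclosed
    obtain ⟨⟨hz, hcentre⟩, hgen⟩ := hclosed
    have hzz : tab (w : Equiv.Perm GolayPt) = m22Cert.z := by
      have h1 := List.all_eq_true.1 hcentre _ ((hH.mem_iff _).2 hwH)
      simp only [Bool.or_eq_true, beq_iff_eq, List.any_eq_true, bne_iff_ne] at h1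
      rcases h1 with (h1 | h1) | ⟨a, ha, h1⟩
      · rw [← tab_one] at h1
        exact (hz1 (by rw [show w = 1 from Subtype.ext (tab_injective h1), map_one])).elim
      · exact h1
      · obtain ⟨α, rfl⟩ := hH.tabs a ha
        have hαH : α ∈ H := by
          rw [hH.gen]; exact Subgroup.subset_closure ha
        refine absurd ?_ h1
        rw [mulT_tab, mulT_tab]
        have h2 := hzc (φ ⟨α, hH.le hαH⟩) ((hmemU _).2 hαH)
        rw [← map_mul, ← map_mul] at h2
        exact congrArg tab (congrArg Subtype.val (hφ h2) :)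
    refine le_antisymm hT.1 ?_
    have hT' : ∀ x ∈ (T.comap φ).map Spor.M22.subtype, ∀ a ∈ Spor.M22, a * x * a⁻¹ ∈ H →
        a * x * a⁻¹ ∈ (T.comap φ).map Spor.M22.subtype := by
      rintro _ ⟨x, hx, rfl⟩ a ha hax
      refine ⟨⟨a, ha⟩ * x * (⟨a, ha⟩ : Spor.M22)⁻¹, ?_, rfl⟩
      show φ _ ∈ T
      rw [map_mul, map_mul, map_inv]
      refine hT.2 _ hx _ ?_
      rw [← map_inv, ← map_mul, ← map_mul, hmemU]
      exact hax
    have hsub := chainRun_sound hH (fun _ ht => inGroup_of_inM22 ht) hT' m22Cert.chain [m22Cert.z]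
      (fun t ht => ⟨w, ⟨w, hzT, rfl⟩, by rw [List.mem_singleton.1 ht, hzz]⟩)
    have hle : H ≤ (T.comap φ).map Spor.M22.subtype := by
      rw [hH.gen, Subgroup.closure_le]
      intro a ha
      obtain ⟨σ, hσ, e⟩ := hsub _ (hgen _ ha)
      rw [tab_injective e]
      exact hσ
    rintro _ ⟨u, hu, rfl⟩
    obtain ⟨u', hu', e⟩ := hle hu
    exact (Subtype.ext e : u' = u) ▸ hu'
  · rw [← hUP]
    intro g hg
    exact Subgroup.subset_closure ⟨hg, Or.inl (hUN hg)⟩

end CfsgLib.FusionSimple.MathieuTab
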