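/-
The 2-fusion system of the McLaughlin group is simple: the Sylow 2-subgroup of the monomial
stabiliser `M22` has only one fixed lattice vector of norm 64 with the inner products of
`(8, 0²³)` with the two defining vectors, so its normalizer is monomial.
-/
import Cfsg.Agent.FusionSimple.McLaughlin.Embedded
import Cfsg.Agent.Leech.Co0Order

set_option autoImplicit false

namespace CfsgLib.FusionSimple.MathieuTab

open Cfsg CfsgLib.Mathieu CfsgLib.Leech

/-- The lattice automorphism permuting coordinates by a member of `M22`. -/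
noncomputable def mcLPerm (σ : Spor.M22) : Co0 :=
  monoCo0 ((σ : Equiv.Perm GolayPt))⁻¹ (inv_mem (SporM22_le σ.2)) ∅
    Cfsg.Spor.empty_mem_supports_golayCode

theorem mcLPerm_smul (σ : Spor.M22) (v : leechLattice) (p : GolayPt) :
    ((mcLPerm σ • v : leechLattice) : GolayPt → ℤ) p =
      (v : GolayPt → ℤ) ((σ : Equiv.Perm GolayPt)⁻¹ p) := by
  rw [mcLPerm, monoCo0_smul]
  simp [monoFun]

theorem mcLPerm_mul (σ τ : Spor.M22) : mcLPerm (σ * τ) = mcLPerm σ * mcLPerm τ := by
  refine co0_ext fun v => Subtype.ext (funext fun p => ?_)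
  rw [mul_smul, mcLPerm_smul, mcLPerm_smul, mcLPerm_smul, Subgroup.coe_mul, mul_inv_rev,
    Equiv.Perm.mul_apply]

theorem fixed_pts (σ : Spor.M22) (p : GolayPt) :
    (((σ : Equiv.Perm GolayPt)⁻¹ p = none) ↔ p = none) ∧
    (((σ : Equiv.Perm GolayPt)⁻¹ p = some 0) ↔ p = some 0) := by
  obtain ⟨⟨-, h1⟩, h2⟩ := mem_SporM22.1 σ.2
  refine ⟨⟨fun h => ?_, fun h => ?_⟩, ⟨fun h => ?_, fun h => ?_⟩⟩
  · have e := congrArg (σ : Equiv.Perm GolayPt) h
    rwa [perm_apply_inv, h1] at e
  · rw [h]
    conv_lhs => rw [← h1]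
    exact perm_inv_apply _ _
  · have e := congrArg (σ : Equiv.Perm GolayPt) h
    rwa [perm_apply_inv, h2] at e
  · rw [h]
    conv_lhs => rw [← h2]
    exact perm_inv_apply _ _

theorem mcLPerm_fix_U (σ : Spor.M22) : mcLPerm σ • Spor.leechU = Spor.leechU := by
  refine Subtype.ext (funext fun p => ?_)
  rw [mcLPerm_smul]
  show Spor.vecU _ = Spor.vecU p
  simp only [Spor.vecU, (fixed_pts σ p).1, (fixed_pts σ p).2]

theorem mcLPerm_fix_V (σ : Spor.M22) : mcLPerm σ • Spor.leechV = Spor.leechV := by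
  refine Subtype.ext (funext fun p => ?_)
  rw [mcLPerm_smul]
  show Spor.vecV _ = Spor.vecV p
  simp only [Spor.vecV, (fixed_pts σ p).1]

theorem mcLPerm_fix_eight (σ : Spor.M22) : mcLPerm σ • eightL none = eightL none := by
  refine Subtype.ext (funext fun p => ?_)
  rw [mcLPerm_smul]
  show eight none _ = eight none p
  simp only [eight, Pi.single_apply, (fixed_pts σ p).1]

theorem mcLPerm_mem (σ : Spor.M22) : ((mcLPerm σ : Co0) : Equiv.Perm leechLattice) ∈ Spor.McL :=
  ⟨⟨(mcLPerm σ).2, mcLPerm_fix_V σ⟩, mcLPerm_fix_U σ⟩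

/-- `M22` inside the McLaughlin group. -/
noncomputable def mcLHom : Spor.M22 →* Spor.McL :=
  MonoidHom.mk' (fun σ => ⟨(mcLPerm σ : Co0), mcLPerm_mem σ⟩) fun σ τ =>
    Subtype.ext (congrArg Subtype.val (mcLPerm_mul σ τ) :)

theorem mcLHom_injective : Function.Injective mcLHom := by
  intro σ τ e
  have e' : mcLPerm σ = mcLPerm τ := Subtype.ext (congrArg Subtype.val e :)
  refine Subtype.ext (inv_injective (Equiv.ext fun p => ?_))
  have h := congrArg (fun g : Co0 =>
    ((g • eightL ((σ : Equiv.Perm GolayPt)⁻¹ p) : leechLattice) : GolayPt → ℤ) p) e'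
  simp only [mcLPerm_smul] at h
  by_contra hne
  simp only [eightL, eight, Pi.single_eq_same, Pi.single_eq_of_ne (Ne.symm hne)] at h
  omega

/-- The member of `Co0` underlying a member of `McL`. -/
def toCo0 (g : Spor.McL) : Co0 := ⟨g, g.2.1.1⟩

/-- The index of the orbit of a point under the Sylow 2-subgroup of `M22`. -/
def mcLClass (p : GolayPt) : Fin 5 :=
  if idx p = 23 then 0 else if idx p = 0 then 1 else if Nat.testBit 2097168 (idx p) then 2
    else if Nat.testBit 71808 (idx p) then 3 else 4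

/-- Representatives of the orbits. -/
def mcLRep : Fin 5 → ℕ := ![23, 0, 4, 7, 1]

theorem orbit_check : ∀ p : GolayPt,
    (orbMask (pcElts m22Cert.pc [idT]) (mcLRep (mcLClass p))).testBit (idx p) = true ∧
      mcLRep (mcLClass p) < 24 := by decide +kernel

theorem class_values : ∀ p : GolayPt,
    Spor.vecU p = ![4, 4, 0, 0, 0] (mcLClass p) ∧
      Spor.vecV p = ![-5, -1, -1, -1, -1] (mcLClass p) ∧
      eight none p = ![8, 0, 0, 0, 0] (mcLClass p) := by decide +kernel

theorem class_sum (F : Fin 5 → ℤ) :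
    ∑ p, F (mcLClass p) = F 0 + F 1 + 2 * F 2 + 4 * F 3 + 16 * F 4 := by
  have hc : ∀ k : Fin 5, (Finset.univ.filter fun p : GolayPt => mcLClass p = k).card =
      ![1, 1, 2, 4, 16] k := by decide +kernel
  rw [← Finset.sum_fiberwise Finset.univ mcLClass fun p => F (mcLClass p)]
  have h : ∀ k : Fin 5, (∑ p ∈ Finset.univ.filter (fun p : GolayPt => mcLClass p = k),
      F (mcLClass p)) = (![1, 1, 2, 4, 16] k : ℕ) * F k := by
    intro k
    rw [← hc k, ← nsmul_eq_mul, ← Finset.sum_const]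
    exact Finset.sum_congr rfl fun p hp => by rw [(Finset.mem_filter.1 hp).2]
  rw [Finset.sum_congr rfl fun k _ => h k, Fin.sum_univ_five]
  simp

theorem unique_solution : ∀ a ∈ Finset.Icc (-8 : ℤ) 8, ∀ d ∈ Finset.Icc (-4 : ℤ) 4,
    ∀ e ∈ Finset.Icc (-2 : ℤ) 2,
    a * a + (8 - a) * (8 - a) + 2 * ((16 - 2 * a - 2 * d - 8 * e) * (16 - 2 * a - 2 * d - 8 * e)) +
      4 * (d * d) + 16 * (e * e) = 64 → a = 8 ∧ d = 0 ∧ e = 0 := by decide +kernel

theorem eight_dots : sqNorm (eight none) = 64 ∧ dotInt Spor.vecU (eight none) = 32 ∧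
    dotInt Spor.vecV (eight none) = -40 := by decide +kernel

/-- The only candidate fixed vector is `(8, 0²³)`. -/
theorem eq_eight {x : GolayPt → ℤ} {y : Fin 5 → ℤ} (hx : ∀ p, x p = y (mcLClass p))
    (hn : sqNorm x = 64) (hu : dotInt Spor.vecU x = 32) (hv : dotInt Spor.vecV x = -40) :
    x = eight none := by
  have e1 : sqNorm x = ∑ p, (fun k => y k * y k) (mcLClass p) :=
    Finset.sum_congr rfl fun p _ => by simp only [hx p]; ring
  have e2 : dotInt Spor.vecU x = ∑ p, (fun k => ![4, 4, 0, 0, 0] k * y k) (mcLClass p) :=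
    Finset.sum_congr rfl fun p _ => by simp only [hx p, (class_values p).1]
  have e3 : dotInt Spor.vecV x = ∑ p, (fun k => ![-5, -1, -1, -1, -1] k * y k) (mcLClass p) :=
    Finset.sum_congr rfl fun p _ => by simp only [hx p, (class_values p).2.1]
  rw [e1, class_sum fun k => y k * y k] at hn
  rw [e2, class_sum fun k => ![4, 4, 0, 0, 0] k * y k] at hu
  rw [e3, class_sum fun k => ![-5, -1, -1, -1, -1] k * y k] at hv
  simp at hn hu hv
  have ha : y 0 ∈ Finset.Icc (-8 : ℤ) 8 := by
    rw [Finset.mem_Icc]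
    constructor <;> nlinarith [mul_self_nonneg (y 1), mul_self_nonneg (y 2), mul_self_nonneg (y 3),
      mul_self_nonneg (y 4)]
  have hd : y 3 ∈ Finset.Icc (-4 : ℤ) 4 := by
    rw [Finset.mem_Icc]
    constructor <;> nlinarith [mul_self_nonneg (y 1), mul_self_nonneg (y 2), mul_self_nonneg (y 0),
      mul_self_nonneg (y 4)]
  have he : y 4 ∈ Finset.Icc (-2 : ℤ) 2 := by
    rw [Finset.mem_Icc]
    constructor <;> nlinarith [mul_self_nonneg (y 1), mul_self_nonneg (y 2), mul_self_nonneg (y 3),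
      mul_self_nonneg (y 0)]
  have hb : y 1 = 8 - y 0 := by linarith
  have hc : y 2 = 16 - 2 * y 0 - 2 * y 3 - 8 * y 4 := by linarith
  rw [hb, hc] at hn
  obtain ⟨h0, h3, h4⟩ := unique_solution _ ha _ hd _ he hn
  funext p
  rw [hx p, (class_values p).2.2]
  generalize mcLClass p = k
  fin_cases k <;> simp [hb, hc, h0, h3, h4]

/-- The normalizer of the Sylow 2-subgroup of `M22` in `McL` lies in `M22`. -/
theorem normalizer_le_range {H : Subgroup (Equiv.Perm GolayPt)} (hH : IsM22Sylow H) :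
    Subgroup.normalizer ((H.subgroupOf Spor.M22).map mcLHom : Set Spor.McL) ≤ mcLHom.range := by
  intro g hg
  set g0 := toCo0 g with hg0
  have hgu : g0 • Spor.leechU = Spor.leechU := g.2.2
  have hgv : g0 • Spor.leechV = Spor.leechV := g.2.1.2
  set x : GolayPt → ℤ := ((g0 • eightL none : leechLattice) : GolayPt → ℤ) with hxdef
  have hinv : ∀ σ : Spor.M22, (σ : Equiv.Perm GolayPt) ∈ H → ∀ p,
      x ((σ : Equiv.Perm GolayPt)⁻¹ p) = x p := by
    intro σ hσ p
    have h1 := (Subgroup.mem_normalizer_iff.1 (inv_mem hg) (mcLHom σ)).1 ⟨σ, hσ, rfl⟩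
    obtain ⟨τ, -, hτ⟩ := h1
    rw [inv_inv] at hτ
    have h2 : mcLHom σ * g = g * mcLHom τ := by rw [hτ]; group
    have h3 : mcLPerm σ * g0 = g0 * mcLPerm τ := Subtype.ext (congrArg Subtype.val h2 :)
    have h4 := congrArg (fun z : Co0 => ((z • eightL none : leechLattice) : GolayPt → ℤ) p) h3
    simp only [mul_smul, mcLPerm_fix_eight, mcLPerm_smul] at h4
    exact h4
  have hy : ∀ p, x p = x (pt (mcLRep (mcLClass p))) := by
    intro p
    obtain ⟨h1, h2⟩ := orbit_check p
    obtain ⟨t, ht, e⟩ := (testBit_orbMask _ _ _).1 h1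
    obtain ⟨σ, hσ, rfl⟩ := (hH.mem t).1 ht
    rw [app_tab σ h2] at e
    have h3 := hinv ⟨σ, hH.le hσ⟩ hσ (σ (pt (mcLRep (mcLClass p))))
    simp only [perm_inv_apply] at h3
    exact (congrArg x (idx_injective e)).symm.trans h3.symm
  have hxeq : x = eight none := by
    refine eq_eight (y := fun k => x (pt (mcLRep k))) hy ?_ ?_ ?_
    · rw [hxdef, co0_norm]
      exact eight_dots.1
    · have h := co0_dot g0 Spor.leechU (eightL none)
      rw [hgu] at h
      exact h.trans eight_dots.2.1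
    · have h := co0_dot g0 Spor.leechV (eightL none)
      rw [hgv] at h
      exact h.trans eight_dots.2.2
  obtain ⟨τ, hτ, c, hc, he⟩ := eq_monoCo0 (preservesCross_of_mem (g := g0) (q := none)
    (mem_stdCross_iff.2 ⟨none, Or.inl hxeq⟩))
  have hv' : ∀ p, monoFun τ c Spor.vecV p = Spor.vecV p := by
    intro p
    have h := congrArg (fun z : leechLattice => (z : GolayPt → ℤ) p) hgv
    rw [he] at h
    exact h
  have hu' : ∀ p, monoFun τ c Spor.vecU p = Spor.vecU p := by
    intro p
    have h := congrArg (fun z : leechLattice => (z : GolayPt → ℤ) p) hgu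
    rw [he] at h
    exact h
  have hneg : ∀ p, Spor.vecV p < 0 := by decide +kernel
  have hcmem : ∀ p, p ∉ c := by
    intro p hp
    have h := hv' p
    simp only [monoFun, hp, if_true] at h
    linarith [hneg p, hneg (τ p)]
  have hnone : τ none = none := by
    have h := hv' none
    simp only [monoFun, hcmem none, if_false] at h
    by_contra hne
    simp [Spor.vecV, hne] at h
  have hzero : τ (some 0) = some 0 := by
    have h := hu' (some 0)
    simp only [monoFun, hcmem (some 0), if_false] at h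
    by_contra hne
    have hn : τ (some 0) ≠ none := fun e => Option.some_ne_none _ (τ.injective (e.trans hnone.symm))
    simp [Spor.vecU, hne, hn] at h
  have hmem : τ ∈ Spor.M22 := mem_SporM22.2 ⟨⟨hτ, hnone⟩, hzero⟩
  refine ⟨⟨τ⁻¹, inv_mem hmem⟩, Subtype.ext ?_⟩
  show ((mcLPerm ⟨τ⁻¹, inv_mem hmem⟩ : Co0) : Equiv.Perm leechLattice) = (g0 : Equiv.Perm leechLattice)
  refine congrArg Subtype.val (co0_ext fun v => Subtype.ext (funext fun p => ?_))
  rw [mcLPerm_smul, he, monoCo0_smul]
  simp [monoFun, hcmem p]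

/-- The 2-fusion system of a group isomorphic to `McL` is simple. -/
theorem isSimple_fusion_McL {G : Type*} [Group G] [Finite G] (hG : Spor.IsoMcL G)
    (S : Sylow 2 G) : (groupFusionSystem (S : Subgroup G)).IsSimple 2 := by
  obtain ⟨e⟩ := hG
  obtain ⟨H, hH⟩ := exists_isM22Sylow
  refine isSimple_of_M22_le (e.symm.toMonoidHom.comp mcLHom)
    (e.symm.injective.comp mcLHom_injective) hH ?_ S
  intro g hg
  have h1 : e g ∈ Subgroup.normalizer ((H.subgroupOf Spor.M22).map mcLHom : Set Spor.McL) := by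
    rw [Subgroup.mem_normalizer_iff] at hg ⊢
    intro y
    have hmem : ∀ z : Spor.McL, z ∈ (H.subgroupOf Spor.M22).map mcLHom ↔
        e.symm z ∈ (H.subgroupOf Spor.M22).map (e.symm.toMonoidHom.comp mcLHom) := by
      intro z
      constructor
      · rintro ⟨a, ha, rfl⟩; exact ⟨a, ha, rfl⟩
      · rintro ⟨a, ha, h⟩; exact ⟨a, ha, e.symm.injective h⟩
    rw [hmem, hmem, hg (e.symm y)]
    simp
  obtain ⟨a, ha⟩ := normalizer_le_range hH h1
  exact ⟨a, by simp [ha]⟩

end CfsgLib.FusionSimple.MathieuTab
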